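import Mathlib

/-!
# The Lubin–Tate lemma

Functional equations `E φ = 0` for power series without constant term which can be solved degree
by degree.
-/

set_option autoImplicit false
set_option linter.style.haveILetI false
universe u v w

open MvPowerSeries Finsupp

namespace Groth.Agent.H23LT

variable {R : Type u} [CommRing R] {σ : Type v}

/-- `E` is triangular with diagonal `c`. -/
def Step (E : MvPowerSeries σ R → MvPowerSeries σ R) (c : ℕ → R) : Prop :=
  ∀ φ ψ : MvPowerSeries σ R, φ.constantCoeff = 0 → ψ.constantCoeff = 0 →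
    ∀ m, (∀ d : σ →₀ ℕ, degree d < m → φ.coeff d = ψ.coeff d) →
      ∀ e : σ →₀ ℕ, degree e = m → (E φ).coeff e - (E ψ).coeff e = c m * (φ.coeff e - ψ.coeff e)

theorem Step.unique {E : MvPowerSeries σ R → MvPowerSeries σ R} {c : ℕ → R} (hE : Step E c)
    (k : ℕ) (hc : ∀ m, k < m → ∀ x : R, c m * x = 0 → x = 0) {φ ψ : MvPowerSeries σ R}
    (hφ : φ.constantCoeff = 0) (hψ : ψ.constantCoeff = 0) (heq : E φ = E ψ)
    (hlow : ∀ d : σ →₀ ℕ, degree d ≤ k → φ.coeff d = ψ.coeff d) : φ = ψ := by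
  ext e
  suffices h : ∀ m, ∀ d : σ →₀ ℕ, degree d = m → φ.coeff d = ψ.coeff d from h _ e rfl
  intro m
  induction m using Nat.strong_induction_on with
  | _ m ih =>
  intro d hd
  rcases le_or_gt m k with h | h
  · exact hlow d (hd ▸ h)
  · have := hE φ ψ hφ hψ m (fun d' hd' => ih _ hd' d' rfl) d hd
    rw [heq, sub_self] at this
    exact sub_eq_zero.mp (hc m h _ this.symm)

theorem Step.exists_solution {E : MvPowerSeries σ R → MvPowerSeries σ R} {c : ℕ → R} (hE : Step E c)
    (k : ℕ) (hdiv : ∀ φ : MvPowerSeries σ R, φ.constantCoeff = 0 → ∀ e : σ →₀ ℕ, k < degree e →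
      c (degree e) ∣ (E φ).coeff e)
    (L : MvPowerSeries σ R) (hL : L.constantCoeff = 0)
    (hlow : ∀ d : σ →₀ ℕ, degree d ≤ k → (E L).coeff d = 0) :
    ∃ φ : MvPowerSeries σ R, φ.constantCoeff = 0 ∧
      (∀ d : σ →₀ ℕ, degree d ≤ k → φ.coeff d = L.coeff d) ∧ E φ = 0 := by
  classical
  choose q hq using hdiv
  let next : ℕ → {φ : MvPowerSeries σ R // φ.constantCoeff = 0} →
      {φ : MvPowerSeries σ R // φ.constantCoeff = 0} := fun m p =>
    ⟨((fun d => if h : degree d = m + 1 ∧ k < degree d then p.1.coeff d - q p.1 p.2 d h.2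
      else p.1.coeff d) : MvPowerSeries σ R), by
      change (if h : degree (0 : σ →₀ ℕ) = m + 1 ∧ k < degree (0 : σ →₀ ℕ) then
        p.1.coeff 0 - q p.1 p.2 0 h.2 else p.1.coeff 0) = 0
      rw [dif_neg (by simp), coeff_zero_eq_constantCoeff_apply]
      exact p.2⟩
  let P : ℕ → {φ : MvPowerSeries σ R // φ.constantCoeff = 0} := fun m => Nat.rec ⟨L, hL⟩ next m
  have hP : ∀ m (d : σ →₀ ℕ), (P (m + 1)).1.coeff d =
      if h : degree d = m + 1 ∧ k < degree d then (P m).1.coeff d - q (P m).1 (P m).2 d h.2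
      else (P m).1.coeff d := fun m d => rfl
  have hstab : ∀ m m' (d : σ →₀ ℕ), m ≤ m' → degree d ≤ m →
      (P m').1.coeff d = (P m).1.coeff d := by
    intro m m' d hm hd
    induction m', hm using Nat.le_induction with
    | base => rfl
    | succ m' hm ih => rw [hP, dif_neg (by omega), ih]
  have hL' : ∀ m (d : σ →₀ ℕ), degree d ≤ k → (P m).1.coeff d = L.coeff d := by
    intro m d hd
    induction m with
    | zero => rfl
    | succ m ih => rw [hP, dif_neg (by omega), ih]
  let φ : MvPowerSeries σ R := fun d => (P (degree d)).1.coeff d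
  have hφd : ∀ d, φ.coeff d = (P (degree d)).1.coeff d := fun d => rfl
  have hφ : φ.constantCoeff = 0 := by
    rw [← coeff_zero_eq_constantCoeff_apply, hφd, coeff_zero_eq_constantCoeff_apply]
    exact (P (degree (0 : σ →₀ ℕ))).2
  have hlow' : ∀ d : σ →₀ ℕ, degree d ≤ k → φ.coeff d = L.coeff d := fun d hd => hL' _ d hd
  refine ⟨φ, hφ, hlow', ?_⟩
  ext e
  rw [coeff_zero]
  rcases le_or_gt (degree e) k with h | h
  · have := hE φ L hφ hL (degree e) (fun d hd => hlow' d (by omega)) e rfl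
    rw [hlow e h, hlow' e h, sub_self, sub_zero, mul_zero] at this
    exact this
  · obtain ⟨m, hm⟩ : ∃ m, degree e = m + 1 := ⟨degree e - 1, by omega⟩
    have hag : ∀ d : σ →₀ ℕ, degree d < degree e → φ.coeff d = (P m).1.coeff d :=
      fun d hd => (hstab _ _ d (by omega) le_rfl).symm
    have := hE φ (P m).1 hφ (P m).2 (degree e) hag e rfl
    rw [hφd e, show P (degree e) = P (m + 1) by rw [hm], hP, dif_pos ⟨hm, h⟩,
      sub_sub_cancel_left, mul_neg,
      ← hq _ (P m).2 e h] at this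
    linear_combination this

theorem coeff_mul_eq_zero {D S : MvPowerSeries σ R} {m : ℕ}
    (hD : ∀ d : σ →₀ ℕ, degree d < m → D.coeff d = 0) (hS : S.constantCoeff = 0) (e : σ →₀ ℕ)
    (he : degree e ≤ m) : (D * S).coeff e = 0 := by
  classical
  rw [coeff_mul]
  refine Finset.sum_eq_zero fun p hp => ?_
  rw [Finset.HasAntidiagonal.mem_antidiagonal] at hp
  rcases eq_or_ne p.2 0 with h | h
  · rw [h, coeff_zero_eq_constantCoeff_apply, hS, mul_zero]
  · rw [hD p.1 ?_, zero_mul]
    have h1 := congrArg degree hp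
    rw [map_add] at h1
    have h2 : degree p.2 ≠ 0 := fun h0 => h ((degree_eq_zero_iff _).mp h0)
    omega

theorem constantCoeff_geom₂ {φ ψ : MvPowerSeries σ R} (hφ : φ.constantCoeff = 0)
    (hψ : ψ.constantCoeff = 0) {q : ℕ} (hq : 2 ≤ q) :
    (∑ i ∈ Finset.range q, φ ^ i * ψ ^ (q - 1 - i)).constantCoeff = 0 := by
  rw [map_sum]
  refine Finset.sum_eq_zero fun i _ => ?_
  rw [map_mul, map_pow, map_pow, hφ, hψ]
  rcases Nat.eq_zero_or_pos i with rfl | hi
  · rw [zero_pow (show q - 1 - 0 ≠ 0 by omega), mul_zero]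
  · rw [zero_pow hi.ne', zero_mul]

theorem eq_single_of_degree {d : σ →₀ ℕ} (h : degree d = 1) : ∃ i, d = single i 1 := by
  obtain ⟨i, hi⟩ : ∃ i, d i ≠ 0 := by
    by_contra hh
    push Not at hh
    rw [show d = 0 from Finsupp.ext hh, map_zero] at h
    exact one_ne_zero h.symm
  have hle : single i 1 ≤ d := single_le_iff.mpr (Nat.one_le_iff_ne_zero.mpr hi)
  have h' := congrArg degree (add_tsub_cancel_of_le hle)
  rw [map_add, degree_single, h] at h'
  refine ⟨i, ?_⟩
  conv_lhs => rw [← add_tsub_cancel_of_le hle]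
  rw [(degree_eq_zero_iff _).mp (show degree (d - single i 1) = 0 by omega), add_zero]

theorem coeff_pow_sub_pow {φ ψ : MvPowerSeries σ R} (hφ : φ.constantCoeff = 0)
    (hψ : ψ.constantCoeff = 0) {q : ℕ} (hq : 2 ≤ q) {m : ℕ}
    (h : ∀ d : σ →₀ ℕ, degree d < m → φ.coeff d = ψ.coeff d) (e : σ →₀ ℕ) (he : degree e ≤ m) :
    (φ ^ q - ψ ^ q).coeff e = 0 := by
  rw [← geom_sum₂_mul, mul_comm]
  exact coeff_mul_eq_zero (fun d hd => by rw [map_sub, h d hd, sub_self])
    (constantCoeff_geom₂ hφ hψ hq) e he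

variable [Finite σ]

/-- The substitution `X i ↦ π X i + (X i) ^ q`. -/
noncomputable def frob (π : R) (q : ℕ) (i : σ) : MvPowerSeries σ R :=
  π • X i + X i ^ q

theorem hasSubst_frob (π : R) {q : ℕ} (hq : q ≠ 0) : HasSubst (frob (σ := σ) π q) :=
  hasSubst_of_constantCoeff_zero fun i => by simp [frob, hq]

/-- The functional equation `π φ + ε φ ^ q = φ (f X)`. -/
noncomputable def eqn (π ε : R) (q : ℕ) (φ : MvPowerSeries σ R) : MvPowerSeries σ R :=
  π • φ + ε • φ ^ q - subst (frob π q) φ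

theorem prod_frob (π : R) {q : ℕ} (hq : 2 ≤ q) (d : σ →₀ ℕ) :
    (d.prod fun i n => frob π q i ^ n) =
      monomial d 1 * d.prod fun i n => (C π + X (R := R) i ^ (q - 1)) ^ n := by
  rw [monomial_one_eq, ← Finsupp.prod_mul]
  refine Finset.prod_congr rfl fun i _ => ?_
  simp only
  rw [← mul_pow]
  congr 1
  rw [frob, mul_add, ← pow_succ', smul_eq_C_mul, mul_comm, Nat.sub_add_cancel (by omega)]

open scoped Classical in
theorem coeff_prod_frob (π : R) {q : ℕ} (hq : 2 ≤ q) (d e : σ →₀ ℕ) (he : degree e ≤ degree d) :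
    (d.prod fun i n => frob π q i ^ n).coeff e = if e = d then π ^ degree d else 0 := by
  classical
  rw [prod_frob π hq, coeff_monomial_mul]
  split_ifs with h1 h2 h2
  · subst h2
    rw [tsub_self, coeff_zero_eq_constantCoeff_apply, one_mul, map_finsuppProd]
    simp [Finsupp.prod, Finset.prod_pow_eq_pow_sum, degree_apply,
      show q - 1 ≠ 0 by omega]
  · exfalso
    have h3 := congrArg degree (add_tsub_cancel_of_le h1)
    rw [map_add] at h3
    have : degree (e - d) = 0 := by omega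
    rw [degree_eq_zero_iff] at this
    exact h2 (le_antisymm (tsub_eq_zero_iff_le.mp this) h1)
  · exact absurd h2.ge h1
  · rfl

theorem step_eqn (π ε : R) {q : ℕ} (hq : 2 ≤ q) :
    Step (eqn (σ := σ) π ε q) (fun m => π - π ^ m) := by
  intro φ ψ hφ hψ m h e he
  have ha := hasSubst_frob (σ := σ) π (show q ≠ 0 by omega)
  have h1 : (φ ^ q).coeff e = (ψ ^ q).coeff e :=
    sub_eq_zero.mp (by rw [← map_sub]; exact coeff_pow_sub_pow hφ hψ hq h e he.le)
  have h2 : (subst (frob π q) φ).coeff e - (subst (frob π q) ψ).coeff e =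
      π ^ m * (φ.coeff e - ψ.coeff e) := by
    rw [← map_sub, ← coe_substAlgHom ha, ← map_sub, coe_substAlgHom, coeff_subst ha,
      finsum_eq_single _ e]
    · rw [coeff_prod_frob π hq e e le_rfl, if_pos rfl, he, map_sub, smul_eq_mul, mul_comm]
    · intro d hd
      rcases lt_or_ge (degree d) m with hdm | hdm
      · rw [map_sub, h d hdm, sub_self, zero_smul]
      · rw [coeff_prod_frob π hq d e (by omega), if_neg (Ne.symm hd), smul_zero]
  simp only [eqn, map_sub, map_add, coeff_smul, smul_eq_mul, h1]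
  linear_combination -h2

theorem eqn_X (π : R) {q : ℕ} (hq : q ≠ 0) (i : σ) : eqn π 1 q (X i) = 0 := by
  rw [eqn, subst_X (hasSubst_frob π hq), one_smul, frob, sub_self]

theorem eqn_smul_zero (π c : R) {q : ℕ} (hq : q ≠ 0) (φ : MvPowerSeries σ R) :
    eqn π 0 q (c • φ) = c • eqn π 0 q φ := by
  simp only [eqn, zero_smul, add_zero, subst_smul (hasSubst_frob π hq), smul_sub, smul_comm π c]

theorem eqn_add_zero (π : R) {q : ℕ} (hq : q ≠ 0) (φ ψ : MvPowerSeries σ R) :
    eqn π 0 q (φ + ψ) = eqn π 0 q φ + eqn π 0 q ψ := by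
  simp only [eqn, zero_smul, add_zero, subst_add (hasSubst_frob π hq), smul_add]
  abel

/-- Substituting solutions into a solution gives a solution. -/
theorem eqn_subst {τ : Type w} [Finite τ] (π ε : R) {q : ℕ} (hq : q ≠ 0)
    {φ : MvPowerSeries σ R} (hφ : eqn π ε q φ = 0) {G : σ → MvPowerSeries τ R}
    (hG0 : ∀ i, (G i).constantCoeff = 0) (hG : ∀ i, eqn π 1 q (G i) = 0) :
    eqn π ε q (subst G φ) = 0 := by
  have hGs := hasSubst_of_constantCoeff_zero hG0
  rw [eqn, sub_eq_zero]
  rw [subst_comp_subst_apply hGs (hasSubst_frob π hq)]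
  have h1 : (fun i => subst (frob π q) (G i)) = fun i => subst G (frob π q i) := by
    funext i
    rw [frob, subst_add hGs, subst_smul hGs, subst_pow hGs, subst_X hGs]
    have := hG i
    rw [eqn, one_smul, sub_eq_zero] at this
    exact this.symm
  rw [h1, ← subst_comp_subst_apply (hasSubst_frob π hq) hGs]
  rw [eqn, sub_eq_zero] at hφ
  rw [← hφ, subst_add hGs, subst_smul hGs, subst_smul hGs, subst_pow hGs]

omit [Finite σ] in
theorem coeff_single_prod_eq_zero {τ : Type w} (G : σ → MvPowerSeries τ R)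
    (hG0 : ∀ i, (G i).constantCoeff = 0) (d : σ →₀ ℕ) (hd : 2 ≤ degree d) (j : τ) :
    (d.prod fun i n => G i ^ n).coeff (single j 1) = 0 := by
  refine coeff_of_lt_order (lt_of_lt_of_le ?_ (le_order_prod _ _))
  refine lt_of_lt_of_le ?_ (Finset.sum_le_sum fun i _ =>
    le_order_pow_of_constantCoeff_eq_zero (d i) (hG0 i))
  rw [degree_single, ← Nat.cast_sum, Nat.cast_lt]
  simp only [degree_apply] at hd
  omega

/-- The linear part of a composite. -/
theorem coeff_single_subst {τ : Type w} [Fintype σ] (φ : MvPowerSeries σ R)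
    (G : σ → MvPowerSeries τ R) (hG0 : ∀ i, (G i).constantCoeff = 0) (j : τ) :
    (subst G φ).coeff (single j 1) =
      ∑ i, φ.coeff (single i 1) * (G i).coeff (single j 1) := by
  classical
  rw [coeff_subst (hasSubst_of_constantCoeff_zero hG0)]
  rw [finsum_eq_sum_of_support_subset _
    (s := Finset.univ.image fun i : σ => single i 1) ?_]
  · rw [Finset.sum_image fun a _ b _ h => single_left_injective one_ne_zero h]
    refine Finset.sum_congr rfl fun i _ => ?_
    simp [Finsupp.prod_single_index]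
  · intro d hd
    rw [Finset.mem_coe, Finset.mem_image]
    by_contra hne
    apply hd
    simp only
    rcases lt_trichotomy (degree d) 1 with h | h | h
    · rw [Nat.lt_one_iff, degree_eq_zero_iff] at h
      subst h
      simp [coeff_one, (single_ne_zero (a := j)).mpr one_ne_zero]
    · obtain ⟨i, rfl⟩ := eq_single_of_degree h
      exact absurd ⟨i, Finset.mem_univ i, rfl⟩ hne
    · rw [coeff_single_prod_eq_zero G hG0 d h j, smul_zero]

theorem eqn_ext (π ε : R) {q : ℕ} (hq : 2 ≤ q)
    (hc : ∀ m, 1 < m → ∀ x : R, (π - π ^ m) * x = 0 → x = 0) {φ ψ : MvPowerSeries σ R}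
    (hφ : φ.constantCoeff = 0) (hψ : ψ.constantCoeff = 0) (h1 : eqn π ε q φ = 0)
    (h2 : eqn π ε q ψ = 0) (hlin : ∀ i, φ.coeff (single i 1) = ψ.coeff (single i 1)) : φ = ψ := by
  refine (step_eqn π ε hq).unique 1 hc hφ hψ (h1.trans h2.symm) fun d hd => ?_
  rcases Nat.le_one_iff_eq_zero_or_eq_one.mp hd with h | h
  · rw [(degree_eq_zero_iff d).mp h, coeff_zero_eq_constantCoeff_apply,
      coeff_zero_eq_constantCoeff_apply, hφ, hψ]
  · obtain ⟨i, rfl⟩ := eq_single_of_degree h
    exact hlin i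

theorem exists_eqn [Fintype σ] (π ε : R) {q : ℕ} (hq : 2 ≤ q)
    (hdiv : ∀ φ : MvPowerSeries σ R, φ.constantCoeff = 0 → ∀ e : σ →₀ ℕ, 1 < degree e →
      (π - π ^ degree e) ∣ (eqn π ε q φ).coeff e)
    (l : σ → R) :
    ∃ φ : MvPowerSeries σ R, φ.constantCoeff = 0 ∧ (∀ i, φ.coeff (single i 1) = l i) ∧
      eqn π ε q φ = 0 := by
  classical
  let L : MvPowerSeries σ R := ∑ i, monomial (single i 1) (l i)
  have hL0 : L.constantCoeff = 0 := by
    rw [← coeff_zero_eq_constantCoeff_apply, map_sum]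
    exact Finset.sum_eq_zero fun i _ => coeff_monomial_ne (single_ne_zero.mpr one_ne_zero).symm _
  have hL1 : ∀ i, L.coeff (single i 1) = l i := by
    intro i
    rw [map_sum, Finset.sum_eq_single i]
    · rw [coeff_monomial_same]
    · exact fun j _ hj =>
        coeff_monomial_ne (fun h => hj (single_left_injective one_ne_zero h).symm) _
    · simp
  obtain ⟨φ, h0, hlow, heq⟩ := (step_eqn π ε hq).exists_solution 1 hdiv L hL0 (fun d hd => by
    have hz : eqn π ε q (0 : MvPowerSeries σ R) = 0 := by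
      rw [eqn, smul_zero, zero_pow (by omega), smul_zero, add_zero,
        ← coe_substAlgHom (hasSubst_frob π (by omega)), map_zero, sub_zero]
    have h := step_eqn π ε hq L 0 hL0 (map_zero _) (degree d) (fun d' hd' => by
      rw [(degree_eq_zero_iff d').mp (by omega), coeff_zero_eq_constantCoeff_apply, hL0,
        coeff_zero]) d rfl
    rw [hz, coeff_zero, sub_zero] at h
    rw [h]
    rcases Nat.le_one_iff_eq_zero_or_eq_one.mp hd with h' | h'
    · rw [(degree_eq_zero_iff d).mp h', coeff_zero_eq_constantCoeff_apply, hL0]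
      simp
    · simp [h'])
  exact ⟨φ, h0, fun i => by rw [hlow _ (by simp), hL1], heq⟩

theorem eqn_map {S : Type*} [CommRing S] (h : R →+* S) (π ε : R) {q : ℕ} (hq : q ≠ 0)
    (φ : MvPowerSeries σ R) :
    (eqn π ε q φ).map h = eqn (h π) (h ε) q (φ.map h) := by
  have : (fun i => (frob (σ := σ) π q i).map h) = frob (h π) q := by
    funext i
    simp [frob, smul_eq_C_mul]
  simp only [eqn, map_sub, map_add, smul_eq_C_mul, map_mul, map_C, map_pow,
    map_subst (hasSubst_frob π hq), this]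

section DVR

variable {O : Type u} [CommRing O] [IsDomain O] [IsDiscreteValuationRing O]

theorem two_le_card_residue [Finite (IsLocalRing.ResidueField O)] :
    2 ≤ Nat.card (IsLocalRing.ResidueField O) :=
  Finite.one_lt_card_iff_nontrivial.mpr inferInstance

theorem sub_pow_eq {π : O} (hπ : Irreducible π) {m : ℕ} (hm : 1 < m) :
    ∃ u : Oˣ, π - π ^ m = π * u := by
  have hmem : π ^ (m - 1) ∈ IsLocalRing.maximalIdeal O :=
    Ideal.pow_mem_of_mem _ ((IsLocalRing.mem_maximalIdeal π).mpr hπ.not_isUnit) _ (by omega)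
  obtain ⟨u, hu⟩ := IsLocalRing.isUnit_one_sub_self_of_mem_nonunits _
    ((IsLocalRing.mem_maximalIdeal _).mp hmem)
  exact ⟨u, by rw [hu, mul_sub, mul_one, ← pow_succ', Nat.sub_add_cancel (by omega)]⟩

theorem regular_sub_pow {π : O} (hπ : Irreducible π) {m : ℕ} (hm : 1 < m) (x : O)
    (h : (π - π ^ m) * x = 0) : x = 0 := by
  obtain ⟨u, hu⟩ := sub_pow_eq hπ hm
  rw [hu] at h
  exact (mul_eq_zero.mp h).resolve_left (mul_ne_zero hπ.ne_zero u.ne_zero)

theorem dvd_coeff_eqn [Finite (IsLocalRing.ResidueField O)] {π : O} (hπ : Irreducible π)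
    (φ : MvPowerSeries σ O) (e : σ →₀ ℕ) :
    π ∣ (eqn π 1 (Nat.card (IsLocalRing.ResidueField O)) φ).coeff e := by
  haveI := Fintype.ofFinite (IsLocalRing.ResidueField O)
  set q := Nat.card (IsLocalRing.ResidueField O) with hq
  have hq0 : q ≠ 0 := by have := two_le_card_residue (O := O); omega
  rw [← Ideal.mem_span_singleton, ← hπ.maximalIdeal_eq,
    ← IsLocalRing.residue_eq_zero_iff, ← coeff_map, eqn_map _ _ _ hq0, map_one,
    (IsLocalRing.residue_eq_zero_iff π).mpr ((IsLocalRing.mem_maximalIdeal π).mpr hπ.not_isUnit)]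
  obtain ⟨p, hp⟩ := CharP.exists (IsLocalRing.ResidueField O)
  obtain ⟨⟨n, hn0⟩, hpr, hn⟩ := FiniteField.card (IsLocalRing.ResidueField O) p
  haveI := Fact.mk hpr
  have hqn : q = p ^ n := by rw [hq, Nat.card_eq_fintype_card]; exact hn
  set ψ := φ.map (IsLocalRing.residue O)
  have key : ψ ^ q = subst (fun i => X i ^ q) ψ := by
    have h := map_iterateFrobenius_expand p hpr.ne_zero ψ n
    rw [iterateFrobenius_eq_pow, FiniteField.frobenius_pow (show Fintype.card (IsLocalRing.ResidueField O) = p ^ n from hn), RingHom.one_def, map_id,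
      RingHom.id_apply] at h
    simp only [hqn, ← h, expand, substAlgHom_apply]
  rw [eqn, key]
  have h0 : (frob (σ := σ) (0 : IsLocalRing.ResidueField O) q) = fun i => X i ^ q := by
    funext i
    simp [frob]
  simp [h0]

theorem exists_eqn_dvr [Fintype σ] [Finite (IsLocalRing.ResidueField O)] {π : O}
    (hπ : Irreducible π) (l : σ → O) :
    ∃ φ : MvPowerSeries σ O, φ.constantCoeff = 0 ∧ (∀ i, φ.coeff (single i 1) = l i) ∧
      eqn π 1 (Nat.card (IsLocalRing.ResidueField O)) φ = 0 := by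
  refine exists_eqn π 1 two_le_card_residue (fun φ _ e he => ?_) l
  obtain ⟨u, hu⟩ := sub_pow_eq hπ he
  rw [hu, Units.mul_right_dvd]
  exact dvd_coeff_eqn hπ φ e

end DVR

end Groth.Agent.H23LT
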