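import Mathlib
import Groth.Agent.H23LT.Basic

/-!
# Lubin–Tate series: translation to one variable
-/

set_option autoImplicit false
universe u v w

open MvPowerSeries Finsupp

namespace Groth.Agent.H23LT

variable {R : Type u} [CommRing R]

theorem frob_unit (π : R) (q : ℕ) :
    (fun _ : Unit => π • (PowerSeries.X : PowerSeries R) + PowerSeries.X ^ q) = frob π q := rfl

theorem subst_series {τ : Type w} (π : R) {q : ℕ} {φ : MvPowerSeries τ R}
    (hφ : φ.constantCoeff = 0) :
    PowerSeries.subst φ (π • PowerSeries.X + PowerSeries.X ^ q : PowerSeries R) = π • φ + φ ^ q := by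
  have ha := PowerSeries.HasSubst.of_constantCoeff_zero hφ
  rw [PowerSeries.subst_add ha, PowerSeries.subst_smul ha, PowerSeries.subst_pow ha,
    PowerSeries.subst_X ha]

theorem frob_eq {τ : Type w} (π : R) {q : ℕ} :
    (fun i : τ => PowerSeries.subst (X i : MvPowerSeries τ R)
      (π • PowerSeries.X + PowerSeries.X ^ q : PowerSeries R)) = frob π q := by
  funext i
  rw [subst_series π (by simp), frob]

/-- Being a solution, in the language of substitution. -/
theorem eqn_iff {τ : Type w} [Finite τ] (π : R) {q : ℕ} {φ : MvPowerSeries τ R}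
    (hφ : φ.constantCoeff = 0) :
    PowerSeries.subst φ (π • PowerSeries.X + PowerSeries.X ^ q : PowerSeries R) =
      subst (fun i => PowerSeries.subst (X i : MvPowerSeries τ R)
        (π • PowerSeries.X + PowerSeries.X ^ q : PowerSeries R)) φ ↔ eqn π 1 q φ = 0 := by
  rw [subst_series π hφ, frob_eq, eqn, one_smul, sub_eq_zero]

theorem eqn_iff_series (π : R) {q : ℕ} {g : PowerSeries R} (hg : g.constantCoeff = 0) :
    PowerSeries.subst g (π • PowerSeries.X + PowerSeries.X ^ q : PowerSeries R) =
      PowerSeries.subst (π • PowerSeries.X + PowerSeries.X ^ q : PowerSeries R) g ↔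
      eqn π 1 q (g : MvPowerSeries Unit R) = 0 := by
  rw [subst_series π hg, eqn, one_smul, sub_eq_zero]
  rfl

theorem eqn_series_subst {τ : Type w} [Finite τ] (π ε : R) {q : ℕ} (hq : q ≠ 0)
    {g : PowerSeries R} (hg : eqn π ε q (g : MvPowerSeries Unit R) = 0)
    {G : MvPowerSeries τ R} (hG0 : G.constantCoeff = 0) (hG : eqn π 1 q G = 0) :
    eqn π ε q (PowerSeries.subst G g) = 0 :=
  eqn_subst π ε hq hg (G := fun _ => G) (fun _ => hG0) (fun _ => hG)

theorem series_subst_constantCoeff {τ : Type w} {g : PowerSeries R} (hg : g.constantCoeff = 0)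
    {G : MvPowerSeries τ R} (hG : G.constantCoeff = 0) :
    (PowerSeries.subst G g : MvPowerSeries τ R).constantCoeff = 0 :=
  PowerSeries.constantCoeff_subst_eq_zero hG g hg

theorem coeff_single_series_subst {τ : Type w} (g : PowerSeries R)
    {G : MvPowerSeries τ R} (hG : G.constantCoeff = 0) (j : τ) :
    (PowerSeries.subst G g : MvPowerSeries τ R).coeff (single j 1) =
      g.coeff 1 * G.coeff (single j 1) := by
  have h := coeff_single_subst (g : MvPowerSeries Unit R) (fun _ => G) (fun _ => hG) j
  rw [Fintype.sum_unique] at h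
  exact h

theorem coeff_one_unit (g : PowerSeries R) (i : Unit) :
    MvPowerSeries.coeff (single i 1) g = g.coeff 1 := rfl

variable {O : Type u} [CommRing O] [IsDomain O] [IsDiscreteValuationRing O]
  [Finite (IsLocalRing.ResidueField O)]

theorem card_ne_zero : Nat.card (IsLocalRing.ResidueField O) ≠ 0 := by
  have := two_le_card_residue (O := O)
  omega

theorem ext_dvr {τ : Type w} [Finite τ] {π : O} (hπ : Irreducible π) {φ ψ : MvPowerSeries τ O}
    (hφ : φ.constantCoeff = 0) (hψ : ψ.constantCoeff = 0)
    (h1 : eqn π 1 (Nat.card (IsLocalRing.ResidueField O)) φ = 0)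
    (h2 : eqn π 1 (Nat.card (IsLocalRing.ResidueField O)) ψ = 0)
    (hlin : ∀ i, φ.coeff (single i 1) = ψ.coeff (single i 1)) : φ = ψ :=
  eqn_ext π 1 two_le_card_residue (fun _ hm x => regular_sub_pow hπ hm x) hφ hψ h1 h2 hlin

end Groth.Agent.H23LT
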